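import Cfsg.Agent.H132.S5.Main
import Cfsg.Agent.H132.S5.CycChar
import Cfsg.Agent.H242.StrP.FFix
import Cfsg.Agent.H452.FprPsl2
import Cfsg.Agent.H28.T5RankOne
import Cfsg.Agent.H199.PslField
import Cfsg.Agent.H436.TTPsl2
import Cfsg.Agent.Lib.AutSL2Out

/-!
# S2274-R1: the strong row of `PSL₂(q)`, `p` prime to `q`

* `exists_fix_sq` : `σ` of odd order: every unit is a fixed unit times a square;
* `conj_inn` : the field automorphism `σ` of odd order: the `PGL₂(q)`-class is a `PSL₂(q)`-class;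
* `outerOk_psl2`, `homOk_psl2` : the outer automorphisms of order `p`;
* **`srow_psl2_cross`** : the strong row.
-/

set_option autoImplicit false

universe u

namespace Cfsg.Agent.H212.S5.PslTwo

open Cfsg Subgroup Matrix Cfsg.Agent.H533.T5 Cfsg.Agent.H106.MT Cfsg.Agent.H28.T5Ok Cfsg.Agent.H28.T5Mid
open Cfsg.Agent.H199.PslAut Cfsg.Agent.H199.PslField Cfsg.Agent.H132.S5 Cfsg.Agent.H242.StrP.FC
open Cfsg.Agent.ClassicalGeometry.AutPSL.Root
open Cfsg.Agent.ClassicalGeometry.AutPSL.Auto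
open Cfsg.Agent.ClassicalGeometry.AutPSL.Main

/-- Every unit is a fixed unit times a square. -/
theorem exists_fix_sq {F : Type*} [Field F] [Finite F] {σ : F ≃+* F} (hσ : Odd (orderOf σ)) (u : F) (hu : u ≠ 0) :
    ∃ a b : F, a ≠ 0 ∧ b ≠ 0 ∧ σ a = a ∧ u = a * b ^ 2 := by
  obtain ⟨k, hk⟩ := hσ
  have hpow : ∀ i : ℕ, σ ((σ ^ i) u) = (σ ^ (i + 1)) u := fun i => by
    rw [pow_succ']
    rfl
  obtain ⟨N, hN⟩ : ∃ N : F, N = ∏ i ∈ Finset.range (2 * k + 1), (σ ^ i) u := ⟨_, rfl⟩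
  have hN0 : N ≠ 0 := by
    rw [hN]
    exact Finset.prod_ne_zero_iff.2 fun i _ => (map_ne_zero _).2 hu
  have hσN : σ N = N := by
    have h1 : σ N = ∏ i ∈ Finset.range (2 * k + 1), (σ ^ (i + 1)) u := by
      rw [hN, map_prod]
      exact Finset.prod_congr rfl fun i _ => hpow i
    have h2 := Finset.prod_range_succ' (fun i => (σ ^ i) u) (2 * k + 1)
    have h3 := Finset.prod_range_succ (fun i => (σ ^ i) u) (2 * k + 1)
    have h4 : (σ ^ (2 * k + 1)) u = u := by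
      rw [← hk, pow_orderOf_eq_one]
      rfl
    have h5 : (σ ^ 0) u = u := by
      rw [pow_zero]
      rfl
    rw [h2, ← h1, ← hN] at h3
    simp only [h4, h5] at h3
    exact mul_right_cancel₀ hu h3
  have hsq : IsSquare (∏ i ∈ Finset.range (2 * k + 1), (u * (σ ^ i) u)) :=
    Finset.prod_induction _ IsSquare (fun _ _ ha hb => ha.mul hb) IsSquare.one
      fun i _ => Cfsg.Agent.Lib.AutSL2Out.isSquare_mul_map (σ ^ i) u
  rw [Finset.prod_mul_distrib, Finset.prod_const, Finset.card_range, ← hN] at hsq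
  obtain ⟨c, hc⟩ := hsq
  have huk : u ^ k ≠ 0 := pow_ne_zero _ hu
  have hc0 : c ≠ 0 := by
    rintro rfl
    rw [mul_zero] at hc
    exact mul_ne_zero (pow_ne_zero _ hu) hN0 hc
  refine ⟨N⁻¹, c / u ^ k, inv_ne_zero hN0, div_ne_zero hc0 huk, by rw [map_inv₀, hσN], ?_⟩
  rw [div_pow, pow_two c, ← hc]
  field_simp
  ring

section

variable {F : Type*} [Field F] [Fintype F]

/-- A `PGL₂`-conjugate of a field automorphism of odd order is a `PSL₂`-conjugate. -/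
theorem conj_inn {σ : F ≃+* F} (hσ : Odd (orderOf σ)) {x : MulAut (ProjectiveSpecialLinearGroup (Fin 2) F)}
    (h : IsConjUnder (inndiagPSL 2 F) (phi 2 F σ) x) :
    ∃ g, x = MulAut.conj g * phi 2 F σ * (MulAut.conj g)⁻¹ := by
  obtain ⟨δ, hδ, rfl⟩ := h
  obtain ⟨w, rfl⟩ := mem_inndiag.1 hδ
  obtain ⟨K, hK, -⟩ := card_fix σ
  have hj : ∀ a, σ a = a ↔ ∃ b : K, K.subtype b = a := fun a =>
    ⟨fun h => ⟨⟨a, (hK a).2 h⟩, rfl⟩, fun ⟨b, hb⟩ => hb ▸ (hK _).1 b.2⟩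
  obtain ⟨a, b, ha, hb, hσa, hu⟩ := exists_fix_sq hσ ((GeneralLinearGroup.det w : Fˣ) : F) (Units.ne_zero _)
  obtain ⟨h, hh⟩ := GeneralLinearGroup.det_surjective (n := Fin 2) (R := K)
    (Units.mk0 (⟨a, (hK a).2 hσa⟩ : K) (fun h0 => ha (congrArg Subtype.val h0)))
  obtain ⟨z, hz⟩ : ∃ z, z = scal 2 F (Units.mk0 b hb) * GeneralLinearGroup.map K.subtype h := ⟨_, rfl⟩
  have hzc : Psi 2 F z ∈ Subgroup.centralizer {phi 2 F σ} := (comm_phi_iff le_rfl hj z).2 ⟨_, h, hz⟩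
  have hdh : GeneralLinearGroup.det (GeneralLinearGroup.map K.subtype h) = Units.mk0 a ha := by
    apply Units.ext
    have h1 : (((GeneralLinearGroup.det h : Kˣ) : K) : F) = a := by rw [hh]; rfl
    rw [Units.val_mk0, ← h1]
    change ((h : Matrix (Fin 2) (Fin 2) K).map K.subtype).det = K.subtype ((h : Matrix (Fin 2) (Fin 2) K).det)
    rw [RingHom.map_det]
    rfl
  have hdz : GeneralLinearGroup.det z = GeneralLinearGroup.det w := by
    rw [hz, map_mul, det_scal, hdh]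
    apply Units.ext
    rw [hu, Units.val_mul, Units.val_pow_eq_pow_val, Units.val_mk0, Units.val_mk0]
    ring
  have hdet : ((w * z⁻¹ : GL (Fin 2) F) : Matrix (Fin 2) (Fin 2) F).det = 1 := by
    have h1 : GeneralLinearGroup.det (w * z⁻¹) = 1 := by rw [map_mul, map_inv, hdz, mul_inv_cancel]
    exact congrArg Units.val h1
  obtain ⟨s, hs⟩ : ∃ s : SpecialLinearGroup (Fin 2) F, (s : GL (Fin 2) F) = w * z⁻¹ :=
    ⟨⟨_, hdet⟩, Units.ext rfl⟩
  have hw : Psi 2 F w = MulAut.conj (pr s) * Psi 2 F z := by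
    rw [← Psi_coe, hs, map_mul, map_inv, inv_mul_cancel_right]
  refine ⟨pr s, ?_⟩
  have hcomm : Psi 2 F z * phi 2 F σ = phi 2 F σ * Psi 2 F z := (Subgroup.mem_centralizer_singleton_iff.1 hzc)
  rw [hw, mul_assoc (MulAut.conj (pr s)), hcomm, _root_.mul_inv_rev]
  group

end

section

variable {F : Type} [Field F] [Fintype F] {p : ℕ}

/-- The form of the outer automorphisms of order `p`. -/
theorem form (h4 : 4 ≤ Fintype.card F) (hp : p.Prime) (h5 : 5 ≤ p)
    {x : MulAut (ProjectiveSpecialLinearGroup (Fin 2) F)} (hx : orderOf x = p) (hxo : ¬ ∃ g, x = MulAut.conj g) :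
    ∃ σ : F ≃+* F, orderOf σ = p ∧ ∃ g, x = MulAut.conj g * phi 2 F σ * (MulAut.conj g)⁻¹ := by
  have hs : IsSimpleGroup (ProjectiveSpecialLinearGroup (Fin 2) F) := simple_psl le_rfl fun _ => h4
  have hfin : Finite (ProjectiveSpecialLinearGroup (Fin 2) F) := Cfsg.Agent.H452.FprPsl2.pfin
  have hZ : center (ProjectiveSpecialLinearGroup (Fin 2) F) = ⊥ := Cfsg.Agent.H163.PG.center_of_simple (not_comm_psl hs)
  rcases Cfsg.Agent.H163.PG.psl_types le_rfl hp hx with h | ⟨σ, hσ, h⟩ | ⟨h, -⟩ | ⟨h, -⟩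
  · refine absurd (inner_of_coprime (relIndex_psl le_rfl hZ) hp ?_ h hx) hxo
    intro h1
    have h2 := Nat.le_of_dvd (by norm_num) (h1.trans (Nat.gcd_dvd_left _ _))
    omega
  · exact ⟨σ, hσ, conj_inn (by rw [hσ]; exact hp.odd_of_ne_two (by omega)) h⟩
  · omega
  · omega

theorem outerOk_psl2 (h4 : 4 ≤ Fintype.card F) (hp : p.Prime) (h5 : 5 ≤ p) (hF : ¬ p ∣ Fintype.card F) :
    OuterOk p (ProjectiveSpecialLinearGroup (Fin 2) F) where
  sb d hd hdo hpY := by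
    have := Fact.mk hp
    obtain ⟨q₀, N₀, hN₀, -, hs, hna, -, N, h1, h2, ⟨e⟩, h3⟩ := fix_psl.{0} (n := 2) le_rfl (fun _ => h4) (p := p)
      (by omega) (fun h => by omega) hd hdo hpY (fun P => Cfsg.Agent.H452.FprPsl2.psl_cyclic (by omega) hF P)
    refine ⟨N, h1, h2, e.isSimpleGroup, fun hc => hna ⟨⟨fun a b => e.symm.injective ?_⟩⟩, h3⟩
    rw [map_mul, map_mul]
    exact hc.is_comm.comm _ _
  conj c d hc hd hco hdo := by
    have := Fact.mk hp
    have hfinR : Finite (F ≃+* F) := Cfsg.Agent.H28.T5RankOne.finite_ringAut F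
    have hcyc : IsCyclic (F ≃+* F) := LieRecognition.FieldSemilinear.isCyclic_ringAut F
    obtain ⟨σ, hσ, g, rfl⟩ := form h4 hp h5 hc hco
    obtain ⟨τ, hτ, g', rfl⟩ := form h4 hp h5 hd hdo
    obtain ⟨j, hj⟩ := mem_zpowers_iff.1 (Cfsg.Agent.H106.MT.mem_zpowers_of_cyclic hp hσ hτ)
    refine ⟨MulAut.conj (g * g'⁻¹), ⟨_, rfl⟩, j, ?_⟩
    have h1 : MulAut.conj (g * g'⁻¹) * (MulAut.conj g' * phi 2 F τ * (MulAut.conj g')⁻¹) *
        (MulAut.conj (g * g'⁻¹))⁻¹ = MulAut.conj g * phi 2 F τ * (MulAut.conj g)⁻¹ := by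
      rw [map_mul, map_inv]
      group
    rw [h1, conj_zpow, ← map_zpow, hj]

end

/-- **The strong row of `PSL₂(q)`, `p` prime to `q`.** -/
theorem srow_psl2_cross {p : ℕ} (hp : p.Prime) (h5 : 5 ≤ p) {F : Type} [Field F] [Fintype F]
    (hF : ¬ p ∣ Fintype.card F) (B : SBox.{u} p) {S : Type u} [Group S] [Finite S] [IsSimpleGroup S]
    (hna : ¬ IsMulCommutative S) (e : S ≃* ProjectiveSpecialLinearGroup (Fin 2) F) : SRow p S := by
  have := Fact.mk hp
  have hp2 : p ≠ 2 := by omega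
  have h4 : 4 ≤ Fintype.card F := Cfsg.Agent.H436.TT.four_le hna e
  have hfin : Finite (ProjectiveSpecialLinearGroup (Fin 2) F) := Cfsg.Agent.H452.FprPsl2.pfin
  have hs : IsSimpleGroup (ProjectiveSpecialLinearGroup (Fin 2) F) := simple_psl le_rfl fun _ => h4
  have hcyc : ∀ P : Sylow p (ProjectiveSpecialLinearGroup (Fin 2) F),
      IsCyclic ↥(P : Subgroup (ProjectiveSpecialLinearGroup (Fin 2) F)) := fun P =>
    Cfsg.Agent.H452.FprPsl2.psl_cyclic hp2 hF P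
  obtain ⟨P⟩ : Nonempty (Sylow p S) := inferInstance
  have hP : IsCyclic ↥(P : Subgroup S) := by
    have h1 := Cfsg.Agent.H28.T5RankOne.cyclic_of_sylow hcyc
      ((P : Subgroup S).map (e : S →* ProjectiveSpecialLinearGroup (Fin 2) F)) (P.2.map _)
    exact isCyclic_of_surjective (e.subgroupMap _).symm (e.subgroupMap _).symm.surjective
  exact srow_of_ok B.aa B.rs hp hna (OuterOk.congr e (outerOk_psl2 h4 hp h5 hF))
    (HomOk.congr e (HomOk.of_cyclic hp (not_comm_psl hs) (Cfsg.Agent.H28.T5RankOne.cyclic_of_sylow hcyc)))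
    (fun x y hx hy => spair_of_cyclic B.aa B.rs hna P hP hx hy)

end Cfsg.Agent.H212.S5.PslTwo
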